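import Cfsg.Agent.SmallSimple.TheoremBCor
import Cfsg.Agent.Blocks.Knorr
import Cfsg.Agent.Blocks.ExistsModular
import Cfsg.Agent.CharactersDeep.ModCongr
import Cfsg.Agent.H610.Twist

/-!
# Rational characters in the principal block: twists and the case of three nonexceptional characters (helper653)

* `pw_mem` : the power maps `χ ↦ χ(g ^ k)`, `k` prime to `|G|`, preserve the principal block.
* `exists_of_three` : if the Sylow `p`-subgroup `P` has order `p` and `|N(P) : C(P)| = 3`, the principal block contains a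
  nontrivial rational character unless there are irreducible characters of degrees `D > 1` and `2D ± 1`.
-/

set_option autoImplicit false

namespace Cfsg.Agent.H653.B0R

open Cfsg Subgroup Cfsg.Agent.Characters Cfsg.Agent.Characters.Core Cfsg.Agent.H610.Twist

universe u

variable {G : Type u} [Group G] [Finite G]

omit [Finite G] in
theorem centralizer_pow {k : ℕ} (hk : Nat.Coprime k (Nat.card G)) (g : G) :
    centralizer ({g ^ k} : Set G) = centralizer ({g} : Set G) := by
  have hk' : Nat.Coprime k (orderOf g) := Nat.Coprime.coprime_dvd_right (orderOf_dvd_natCard g) hk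
  ext h
  rw [mem_centralizer_singleton_iff, mem_centralizer_singleton_iff]
  constructor
  · intro h1
    have h2 : Commute h (g ^ k) := h1
    obtain ⟨m, hm⟩ := exists_pow_eq_self_of_coprime hk'
    have h3 : Commute h ((g ^ k) ^ m) := h2.pow_right m
    rw [hm] at h3
    exact h3
  · intro h1
    exact (show Commute h g from h1).pow_right k

theorem pw_mem {M : Ideal AlgInt} {k : ℕ} (hk : Nat.Coprime k (Nat.card G)) {χ : IrrCharacter G}
    (hχ : χ ∈ principalBlock M G) : pw hk χ ∈ principalBlock M G := by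
  intro x
  have h1 : MemLocalIdeal M (centralChar (fun _ : G => (1 : ℂ)) (x ^ k) - centralChar (χ : G → ℂ) (x ^ k)) :=
    hχ (x ^ k)
  have h2 : centralChar (fun _ : G => (1 : ℂ)) (x ^ k) = centralChar (fun _ : G => (1 : ℂ)) x := by
    unfold centralChar
    rw [centralizer_pow hk]
  have h3 : centralChar (χ : G → ℂ) (x ^ k) = centralChar (pw hk χ : G → ℂ) x := by
    unfold centralChar
    rw [centralizer_pow hk, pw_apply, pw_apply, one_pow]
  rw [h2, h3] at h1
  exact h1

theorem charDegree_pw {k : ℕ} (hk : Nat.Coprime k (Nat.card G)) (χ : IrrCharacter G) :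
    (pw hk χ : G → ℂ) 1 = (χ : G → ℂ) 1 := by
  rw [pw_apply, one_pow]

/-- not rational: moved by a power map -/
theorem exists_pw_ne {χ : IrrCharacter G} (h : ¬ ∀ g : G, ∃ q : ℚ, (χ : G → ℂ) g = (q : ℂ)) :
    ∃ (k : ℕ) (hk : Nat.Coprime k (Nat.card G)), pw hk χ ≠ χ := by
  by_contra hc
  push Not at hc
  refine h fun g => (GaloisBasic.exists_rat_iff (isIrr_isCharacter χ.2) g).2 fun m hm => ?_
  have h1 := congrFun (congrArg Subtype.val (hc m hm)) g
  exact h1

theorem dvd_sub_degree {s : ℕ} (hs : s.Prime) {x : G} (hx : orderOf x = s)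
    (χ : IrrCharacter G) {m : ℤ} (hm : (χ : G → ℂ) x = m) : (s : ℤ) ∣ m - charDegree (χ : G → ℂ) := by
  obtain ⟨M, hM⟩ := Blocks.ExistsModular.exists_isPModular hs
  have h1 := CharactersDeep.ModCongr.memLocalIdeal_character_sub hM χ.2 x x ⟨1, by rw [mul_one], Commute.one_right x,
    ⟨1, by rw [hx, pow_one]⟩, by rw [orderOf_one, Nat.dvd_one]; exact hs.one_lt.ne'⟩
  rw [inv_mul_cancel, hm, Blocks.Knorr.charDegree_eq χ.2] at h1
  have h2 : (m : ℂ) - (charDegree (χ : G → ℂ) : ℂ) = ((m - charDegree (χ : G → ℂ) : ℤ) : ℂ) := by push_cast; ring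
  rw [h2, Blocks.Local.memLocalIdeal_intCast_iff hM] at h1
  exact h1

/-- **Three nonexceptional characters.** -/
theorem exists_of_three {p : ℕ} [Fact p.Prime] (hp2 : p ≠ 2) {M : Ideal AlgInt} (hM : IsPModular p M)
    (P : Sylow p G) (hP : Nat.card P = p) {t : ℕ}
    (he : (centralizer (P : Set G)).relIndex (normalizer (P : Set G)) = 3) (ht : 3 * t = p - 1)
    (hbad : ∀ χ Θ : IrrCharacter G, (χ : G → ℂ) ≠ 1 →
      (charDegree (Θ : G → ℂ) = 2 * charDegree (χ : G → ℂ) + 1 ∨
        charDegree (Θ : G → ℂ) + 1 = 2 * charDegree (χ : G → ℂ)) → False) :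
    ∃ χ : IrrCharacter G, χ ∈ principalBlock M G ∧ ¬ ((χ : G → ℂ) = fun _ => (1 : ℂ)) ∧
      ¬ p ∣ charDegree (χ : G → ℂ) ∧ ∀ g : G, ∃ k : ℤ, (χ : G → ℂ) g = (k : ℂ) := by
  classical
  have hp : p.Prime := Fact.out
  obtain ⟨NE, X, ε, d, S, hB, hdis, hNE, hX, hε, hd, ⟨χ₁, hχ₁, h1, hε1⟩, hval, hX2, -, hrel⟩ :=
    SmallSimple.TheoremB.theoremB p hp2 M hM P hP 3 t he ht
  have hxe : ∃ x ∈ (P : Subgroup G), x ≠ 1 := by
    obtain ⟨x, hx⟩ := exists_prime_orderOf_dvd_card' (G := (P : Subgroup G)) p (by rw [show Nat.card (P : Subgroup G) = p from hP])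
    refine ⟨x, x.2, fun h => ?_⟩
    have : x = 1 := Subtype.ext h
    rw [this, orderOf_one] at hx
    exact hp.one_lt.ne hx
  obtain ⟨x, hxP, hx1⟩ := hxe
  have hvx : ∀ χ ∈ NE, ∀ y ∈ (P : Subgroup G), y ≠ 1 → (χ : G → ℂ) y = ε χ := by
    intro χ hχ y hy hy1
    have := hval χ hχ y hy hy1 1 (one_mem _) (by rw [orderOf_one]; exact hp.one_lt.ne' ∘ Nat.dvd_one.1)
    rwa [mul_one] at this
  by_contra hno
  push Not at hno
  -- a nontrivial nonexceptional character
  obtain ⟨χ, hχ, hχne⟩ : ∃ χ ∈ NE, χ ≠ χ₁ := by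
    by_contra hc
    push Not at hc
    have : NE ⊆ {χ₁} := fun χ h => Finset.mem_singleton.2 (hc χ h)
    have := Finset.card_le_card this
    rw [hNE, Finset.card_singleton] at this
    omega
  have hχt : ¬ ((χ : G → ℂ) = fun _ => (1 : ℂ)) := fun h => hχne (Subtype.ext (by rw [h, h1]; rfl))
  have hndeg : ¬ p ∣ charDegree (χ : G → ℂ) := by
    intro hd
    have h2 := dvd_sub_degree hp (Blocks.CyclicOrtho.orderOf_eq P hP hxP hx1) χ (hvx χ hχ x hxP hx1)
    have h3 : (p : ℤ) ∣ ε χ := by
      have := dvd_add h2 (Int.natCast_dvd_natCast.2 hd)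
      rwa [sub_add_cancel] at this
    have h4 : (p : ℤ) ∣ 1 := by
      rcases hε χ hχ with h | h <;> rw [h] at h3
      · exact h3
      · exact (dvd_neg.1 h3)
    exact hp.one_lt.ne' (Nat.dvd_one.1 (Int.natCast_dvd_natCast.1 (by exact_mod_cast h4)))
  have hnr : ¬ ∀ g : G, ∃ q : ℚ, (χ : G → ℂ) g = (q : ℂ) := by
    intro h
    obtain ⟨g, hg⟩ := hno χ ((hB χ).2 (Or.inl hχ)) hχt hndeg
    obtain ⟨k, hk⟩ := GaloisBasic.exists_int_of_rat (isIrr_isCharacter χ.2) g (h g)
    exact hg k hk
  obtain ⟨k, hk, hne⟩ := exists_pw_ne hnr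
  have hkp : ¬ p ∣ k := fun h => by
    have h2 : p ∣ Nat.card G := by
      have h3 := Subgroup.card_subgroup_dvd_card (P : Subgroup G)
      rwa [show Nat.card (P : Subgroup G) = p from hP] at h3
    have h4 := Nat.dvd_gcd h h2
    rw [hk] at h4
    exact hp.one_lt.ne' (Nat.dvd_one.1 h4)
  have hxk : x ^ k ∈ (P : Subgroup G) := pow_mem hxP k
  have hxk1 : x ^ k ≠ 1 := by
    intro h
    have h3 := Blocks.CyclicOrtho.orderOf_eq P hP hxP hx1
    have h4 := orderOf_dvd_of_pow_eq_one h
    rw [h3] at h4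
    exact hkp h4
  have hvk : (pw hk χ : G → ℂ) x = ε χ := by
    rw [pw_apply]
    exact hvx χ hχ _ hxk hxk1
  -- the twist is nonexceptional
  have hpNE : pw hk χ ∈ NE := by
    rcases (hB _).1 (pw_mem hk ((hB χ).2 (Or.inl hχ))) with h | h
    · exact h
    · exfalso
      -- exceptional: the values sum to `-3 d` over `P#`
      obtain ⟨hS, hS1, hSv⟩ := hX2 _ h
      have hPf := Fintype.ofFinite (P : Subgroup G)
      have h4 := SmallSimple.TheoremBCor.sum_exc_off (f := fun x : (P : Subgroup G) => (pw hk χ : G → ℂ) x)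
        (d := (d : ℂ)) hS1 (fun y hy => by
          have := hSv y hy 1 (one_mem _) (by rw [orderOf_one]; exact hp.one_lt.ne' ∘ Nat.dvd_one.1)
          rwa [mul_one] at this)
      have h5 : ∑ y : (P : Subgroup G), (pw hk χ : G → ℂ) y = (pw hk χ : G → ℂ) 1 + (p - 1 : ℕ) * (ε χ : ℂ) := by
        rw [← Finset.add_sum_erase _ _ (Finset.mem_univ (1 : (P : Subgroup G)))]
        congr 1
        have h6 : ∀ y ∈ (Finset.univ : Finset (P : Subgroup G)).erase 1, (pw hk χ : G → ℂ) y = ε χ := by
          intro y hy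
          have hy1 : (y : G) ≠ 1 := fun e => (Finset.mem_erase.1 hy).1 (Subtype.ext e)
          rw [pw_apply]
          refine hvx χ hχ _ (pow_mem y.2 k) fun h => ?_
          have h3 := Blocks.CyclicOrtho.orderOf_eq P hP y.2 hy1
          have h4 := orderOf_dvd_of_pow_eq_one h
          rw [h3] at h4
          exact hkp h4
        rw [Finset.sum_congr rfl h6, Finset.sum_const, Finset.card_erase_of_mem (Finset.mem_univ _), Finset.card_univ,
          ← Nat.card_eq_fintype_card, show Nat.card (P : Subgroup G) = p from hP, nsmul_eq_mul]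
      rw [h5, hS] at h4
      have h7 : ((p - 1 : ℕ) : ℂ) * (ε χ : ℂ) = - (d * 3) := by
        have h8 : (((1 : (P : Subgroup G)) : G)) = 1 := rfl
        rw [h8] at h4
        push_cast at h4 ⊢
        linear_combination h4
      have h8 : ((p - 1 : ℕ) : ℤ) * ε χ = - (d * 3) := by exact_mod_cast h7
      have h9 : p - 1 = 3 := by
        have := congrArg Int.natAbs h8
        rw [Int.natAbs_mul, Int.natAbs_neg, Int.natAbs_mul, Int.natAbs_natCast] at this
        have a1 : (ε χ).natAbs = 1 := by rcases hε χ hχ with h | h <;> rw [h] <;> rfl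
        have a2 : d.natAbs = 1 := by rcases hd with h | h <;> rw [h] <;> rfl
        rw [a1, a2] at this
        simpa using this
      have h10 : p = 4 := by omega
      rw [h10] at hp
      exact absurd hp (by decide)
  have hpε : ε (pw hk χ) = ε χ := by
    have h2 := hvx _ hpNE x hxP hx1
    rw [hvk] at h2
    exact_mod_cast h2.symm
  have hp1 : pw hk χ ≠ χ₁ := by
    intro h
    apply hχne
    apply pw_injective hk
    rw [h]
    apply Subtype.ext
    funext g
    rw [pw_apply, h1]
    rfl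
  have hNE3 : NE = {χ₁, χ, pw hk χ} := by
    symm
    apply Finset.eq_of_subset_of_card_le
    · intro ψ hψ
      simp only [Finset.mem_insert, Finset.mem_singleton] at hψ
      rcases hψ with rfl | rfl | rfl
      · exact hχ₁
      · exact hχ
      · exact hpNE
    · rw [hNE, Finset.card_insert_of_notMem, Finset.card_insert_of_notMem, Finset.card_singleton]
      · rw [Finset.mem_singleton]; exact hne.symm
      · simp only [Finset.mem_insert, Finset.mem_singleton, not_or]
        exact ⟨hχne.symm, hp1.symm⟩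
  obtain ⟨Θ, hΘ⟩ : X.Nonempty := by
    rw [← Finset.card_pos, hX]
    have := hp.two_le
    omega
  have hr := hrel Θ hΘ 1 (by rw [orderOf_one]; exact hp.one_lt.ne' ∘ Nat.dvd_one.1)
  rw [hNE3, Finset.sum_insert, Finset.sum_insert, Finset.sum_singleton, hpε, charDegree_pw, hε1, h1,
    Blocks.Knorr.charDegree_eq χ.2, Blocks.Knorr.charDegree_eq Θ.2] at hr
  · have hr' : (1 : ℤ) + 2 * (ε χ * (charDegree (χ : G → ℂ) : ℤ)) = d * (charDegree (Θ : G → ℂ) : ℤ) := by
      have : ((1 + 2 * (ε χ * (charDegree (χ : G → ℂ) : ℤ)) : ℤ) : ℂ) = ((d * (charDegree (Θ : G → ℂ) : ℤ) : ℤ) : ℂ) := by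
        push_cast
        have h11 : ((1 : G → ℂ)) 1 = 1 := rfl
        rw [h11] at hr
        linear_combination hr
      exact_mod_cast this
    refine hbad χ Θ (fun h => hχt (by rw [h]; rfl)) ?_
    have hpos : 0 < charDegree (χ : G → ℂ) := by
      rw [Nat.pos_iff_ne_zero]
      intro h0
      have := Blocks.Knorr.charDegree_eq χ.2
      rw [h0, Nat.cast_zero] at this
      exact isIrr_apply_one_ne_zero χ.2 this
    rcases hε χ hχ with h | h <;> rcases hd with h' | h' <;> rw [h, h'] at hr' <;> omega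
  · rw [Finset.mem_singleton]; exact hne.symm
  · simp only [Finset.mem_insert, Finset.mem_singleton, not_or]
    exact ⟨hχne.symm, hp1.symm⟩

end Cfsg.Agent.H653.B0R
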